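import Cfsg.Agent.H940.L34.LemH
import Cfsg.Agent.H927.L34.QFree
import Cfsg.Agent.H633.L34.TrNil

/-!
# S5917, type D: nilpotent endomorphisms commuting with the quaternion group (helper736)

`U` of dimension 8, free over the quaternion group `⟨i, j⟩` of isometries.  The nilpotent infinitesimal
similitudes of `U` that commute with `i`, `j` lie in a subspace of dimension at most three (`nil3`).
-/

set_option autoImplicit false

namespace Cfsg.Agent.H736.L34

open Module Cfsg.Agent.H940.L34

section Gen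

variable {K U : Type*} [Field K] [CharP K 2] [AddCommGroup U] [Module K U] {i j z : U →ₗ[K] U}

/-- if `z` is free on `U` then some vector generates `U` over the quaternion group -/
theorem exists_gen (h : Q8 i j z) (hU : finrank K U = 8)
    (hf : finrank K (LinearMap.range (z + 1 : U →ₗ[K] U)) = 4) :
    ∃ e : U, Submodule.span K ({e, i e, j e, j (i e)} ∪ {z e, z (i e), z (j e), z (j (i e))} : Set U) = ⊤ := by
  have hfd : FiniteDimensional K U := FiniteDimensional.of_finrank_pos (by rw [hU]; norm_num)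
  have hnt : Nontrivial U := Module.nontrivial_of_finrank_pos (R := K) (by rw [hU]; norm_num)
  have h2 : ∀ x : U, x + x = 0 := fun x => Cfsg.Agent.H633.L34.add_self' K x
  have hle : LinearMap.range (z + 1 : U →ₗ[K] U) ≤ LinearMap.ker (z + 1 : U →ₗ[K] U) := by
    rintro _ ⟨x, rfl⟩
    rw [LinearMap.mem_ker]
    simp only [LinearMap.add_apply, Module.End.one_apply, map_add, h.zz]
    rw [show x + z x + (z x + x) = (x + x) + (z x + z x) by abel, h2, h2, add_zero]
  have hrk := LinearMap.finrank_range_add_finrank_ker (z + 1 : U →ₗ[K] U)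
  have heq : LinearMap.range (z + 1 : U →ₗ[K] U) = LinearMap.ker (z + 1 : U →ₗ[K] U) :=
    Submodule.eq_of_le_of_finrank_eq hle (by omega)
  have hz4 : ∀ x, i (i (i (i x))) = x := fun x => by rw [h.ii, h.ii, h.zz]
  have hjj : ∀ x, j (j x) = i (i x) := fun x => by rw [h.ii, h.jj]
  have hij : ∀ x, i (j x) = i (i (j (i x))) := fun x => by rw [h.ii, h.ji, h.zz]
  obtain ⟨e, he⟩ := Cfsg.Agent.H927.L34.exists_tr_ne i j hjj hij hz4 (by
    intro x hx
    have h3 : x ∈ LinearMap.range (z + 1 : U →ₗ[K] U) := by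
      rw [heq, LinearMap.mem_ker, LinearMap.add_apply, Module.End.one_apply, ← h.ii, add_comm]
      exact hx
    obtain ⟨y, hy⟩ := h3
    refine ⟨y, ?_⟩
    rw [← hy, LinearMap.add_apply, Module.End.one_apply, h.ii, add_comm]) (exists_ne 0)
  refine ⟨e, ?_⟩
  have h5 := Cfsg.Agent.H633.L34.span_of_tr (i := i) (j := j) hz4 hjj hij hU (x := e) (by
    rw [← Cfsg.Agent.H633.L34.nn_al_be hz4 hjj hij]
    exact he)
  simp only [h.ii] at h5
  rw [h.zi]
  exact h5

end Gen

section Form

variable {K U : Type*} [Field K] [CharP K 2] [AddCommGroup U] [Module K U] {i j z : U →ₗ[K] U}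
  (h : Q8 i j z) {q : U → K} {b : U →ₗ[K] U →ₗ[K] K} (hq : ∀ v w, q (v + w) = q v + q w + b v w)
  (hi : ∀ v, q (i v) = q v) (hj : ∀ v, q (j v) = q v) (hb : ∀ v, (∀ w, b w v = 0) → v = 0)

omit [CharP K 2] in
include hq in
theorem b_symm (v w : U) : b v w = b w v := by
  have h1 := hq v w
  have h2 := hq w v
  rw [add_comm w v] at h2
  linear_combination h2 - h1

omit [CharP K 2] in
include hq in
theorem b_iso {g : U →ₗ[K] U} (hg : ∀ v, q (g v) = q v) (v w : U) : b (g v) (g w) = b v w := by
  have h1 := hq v w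
  have h2 := hq (g v) (g w)
  rw [← map_add, hg, hg, hg] at h2
  linear_combination h1 - h2

/-- the commuting alternating endomorphisms with `b (A e) (z e) = 0` -/
def T3 (i j z : U →ₗ[K] U) (b : U →ₗ[K] U →ₗ[K] K) (e : U) : Submodule K (Module.End K U) where
  carrier := {A | (∀ v, A (i v) = i (A v)) ∧ (∀ v, A (j v) = j (A v)) ∧ (∀ v, b (A v) v = 0) ∧ b (A e) (z e) = 0}
  add_mem' := by
    rintro A B ⟨a1, a2, a3, a4⟩ ⟨b1, b2, b3, b4⟩
    refine ⟨fun v => ?_, fun v => ?_, fun v => ?_, ?_⟩
    · rw [LinearMap.add_apply, LinearMap.add_apply, a1, b1, map_add]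
    · rw [LinearMap.add_apply, LinearMap.add_apply, a2, b2, map_add]
    · rw [LinearMap.add_apply, map_add, LinearMap.add_apply, a3, b3, add_zero]
    · rw [LinearMap.add_apply, map_add, LinearMap.add_apply, a4, b4, add_zero]
  zero_mem' := by
    refine ⟨fun v => ?_, fun v => ?_, fun v => ?_, ?_⟩ <;> simp
  smul_mem' := by
    rintro c A ⟨a1, a2, a3, a4⟩
    refine ⟨fun v => ?_, fun v => ?_, fun v => ?_, ?_⟩
    · rw [LinearMap.smul_apply, LinearMap.smul_apply, a1, map_smul]
    · rw [LinearMap.smul_apply, LinearMap.smul_apply, a2, map_smul]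
    · rw [LinearMap.smul_apply, map_smul, LinearMap.smul_apply, a3, smul_zero]
    · rw [LinearMap.smul_apply, map_smul, LinearMap.smul_apply, a4, smul_zero]

omit [CharP K 2] in
theorem mem_T3 {e : U} {A : Module.End K U} : A ∈ T3 i j z b e ↔ (∀ v, A (i v) = i (A v)) ∧
    (∀ v, A (j v) = j (A v)) ∧ (∀ v, b (A v) v = 0) ∧ b (A e) (z e) = 0 := Iff.rfl

theorem alt_symm {A : Module.End K U} (hA : ∀ v, b (A v) v = 0) (v w : U) : b (A v) w = b (A w) v := by
  have h1 := hA (v + w)
  simp only [map_add, LinearMap.add_apply, hA, zero_add, add_zero] at h1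
  exact (CharTwo.add_eq_zero.1 h1).symm

include h hq hi hj in
/-- `b (A e) (g⁻¹ e) = b (A e) (g e)` for the three generators -/
theorem inv_vals {A : Module.End K U} (a1 : ∀ v, A (i v) = i (A v)) (a2 : ∀ v, A (j v) = j (A v))
    (a3 : ∀ v, b (A v) v = 0) (e : U) : b (A e) (z (i e)) = b (A e) (i e) ∧ b (A e) (z (j e)) = b (A e) (j e) ∧
    b (A e) (z (j (i e))) = b (A e) (j (i e)) := by
  have key : ∀ g : U →ₗ[K] U, (∀ v, q (g v) = q v) → (∀ v, A (g v) = g (A v)) → (∀ v, g (g v) = z v) →
      b (A e) (z (g e)) = b (A e) (g e) := by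
    intro g hg hA hgg
    have zg : ∀ v, z (g v) = g (z v) := fun v => by rw [← hgg, ← hgg]
    rw [← b_iso hq hg (A e) (z (g e)), ← hA, ← zg, hgg, h.zz, alt_symm a3]
  refine ⟨key i hi a1 h.ii, key j hj a2 h.jj, ?_⟩
  have := key (j ∘ₗ i) (fun v => by rw [LinearMap.comp_apply, hj, hi])
    (fun v => by rw [LinearMap.comp_apply, LinearMap.comp_apply, a2, a1])
    (fun v => by
      simp only [LinearMap.comp_apply]
      rw [h.ji (j (i v))]
      simp only [h.jj, h.zi, h.zz, h.ii])
  exact this

include h hq hi hj hb in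
theorem T3_eq_zero {e : U}
    (he : Submodule.span K ({e, i e, j e, j (i e)} ∪ {z e, z (i e), z (j e), z (j (i e))} : Set U) = ⊤)
    {A : Module.End K U} (hA : A ∈ T3 i j z b e) (h1 : b (A e) (i e) = 0) (h2 : b (A e) (j e) = 0)
    (h3 : b (A e) (j (i e)) = 0) : A = 0 := by
  obtain ⟨a1, a2, a3, a4⟩ := mem_T3.1 hA
  obtain ⟨v1, v2, v3⟩ := inv_vals h hq hi hj a1 a2 a3 e
  have hz : ∀ v, A (z v) = z (A v) := fun v => by rw [← h.ii, a1, a1, h.ii]
  have hAe : A e = 0 := by
    apply hb
    intro w
    rw [b_symm hq]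
    have hw : w ∈ Submodule.span K ({e, i e, j e, j (i e)} ∪ {z e, z (i e), z (j e), z (j (i e))} : Set U) := by
      rw [he]; trivial
    have hle : Submodule.span K ({e, i e, j e, j (i e)} ∪ {z e, z (i e), z (j e), z (j (i e))} : Set U) ≤
        LinearMap.ker (b (A e)) := by
      rw [Submodule.span_le]
      rintro u ((rfl | rfl | rfl | rfl) | (rfl | rfl | rfl | rfl))
      · exact a3 _
      · exact h1
      · exact h2
      · exact h3
      · exact a4
      · exact v1.trans h1
      · exact v2.trans h2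
      · exact v3.trans h3
    exact hle hw
  ext w
  have hw : w ∈ Submodule.span K ({e, i e, j e, j (i e)} ∪ {z e, z (i e), z (j e), z (j (i e))} : Set U) := by
    rw [he]; trivial
  have hle : Submodule.span K ({e, i e, j e, j (i e)} ∪ {z e, z (i e), z (j e), z (j (i e))} : Set U) ≤
      LinearMap.ker A := by
    rw [Submodule.span_le]
    rintro u ((rfl | rfl | rfl | rfl) | (rfl | rfl | rfl | rfl)) <;>
      simp only [SetLike.mem_coe, LinearMap.mem_ker, a1, a2, hz, hAe, map_zero]
  exact hle hw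

include h hq hi hj hb in
theorem finrank_T3 [FiniteDimensional K U] {e : U}
    (he : Submodule.span K ({e, i e, j e, j (i e)} ∪ {z e, z (i e), z (j e), z (j (i e))} : Set U) = ⊤) :
    finrank K (T3 i j z b e) ≤ 3 := by
  let f : Module.End K U →ₗ[K] K × K × K :=
    LinearMap.prod ((b.flip (i e)).comp (LinearMap.applyₗ e))
      (LinearMap.prod ((b.flip (j e)).comp (LinearMap.applyₗ e)) ((b.flip (j (i e))).comp (LinearMap.applyₗ e)))
  have hinj : Function.Injective (f.domRestrict (T3 i j z b e)) := by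
    rw [injective_iff_map_eq_zero]
    rintro ⟨A, hA⟩ hA0
    have g1 := congrArg Prod.fst hA0
    have g23 := congrArg Prod.snd hA0
    have g2 := congrArg Prod.fst g23
    have g3 := congrArg Prod.snd g23
    have : A = 0 := T3_eq_zero h hq hi hj hb he hA g1 g2 g3
    exact Subtype.ext this
  have := LinearMap.finrank_le_finrank_of_injective hinj
  refine this.trans (le_of_eq ?_)
  simp only [Module.finrank_prod, Module.finrank_self]

include h hq hi hj hb in
theorem nil_mem_T3 [FiniteDimensional K U] [Nontrivial U] {e : U}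
    (he : Submodule.span K ({e, i e, j e, j (i e)} ∪ {z e, z (i e), z (j e), z (j (i e))} : Set U) = ⊤)
    {A : Module.End K U} (a1 : ∀ v, A (i v) = i (A v)) (a2 : ∀ v, A (j v) = j (A v)) {c : K}
    (hA : ∀ v, b (A v) v = c * q v) (hn : IsNilpotent A) : A ∈ T3 i j z b e := by
  obtain ⟨n, hn⟩ := hn
  have hz : ∀ v, A (z v) = z (A v) := fun v => by rw [← h.ii, a1, a1, h.ii]
  -- a kernel vector
  obtain ⟨u, hu, hu0⟩ : ∃ u : U, u ≠ 0 ∧ A u = 0 := by
    by_contra hcon
    push Not at hcon
    have hinj : Function.Injective A := by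
      rw [injective_iff_map_eq_zero]
      intro v hv
      by_contra hv0
      exact hcon v hv0 hv
    have hinj' : ∀ m : ℕ, Function.Injective (A ^ m) := by
      intro m
      induction m with
      | zero => exact fun x y hxy => hxy
      | succ m ih =>
        rw [pow_succ]
        exact ih.comp hinj
    obtain ⟨v, hv⟩ := exists_ne (0 : U)
    exact hv (hinj' n (by rw [hn]; rfl))
  have pol : ∀ v w, b (A v) w + b (A w) v = c * b v w := by
    intro v w
    have h1 := hA (v + w)
    rw [hq] at h1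
    simp only [map_add, LinearMap.add_apply, hA] at h1
    linear_combination h1
  have hc : c = 0 := by
    by_contra hc
    have h1 : ∀ v, b (A v) u = c * b v u := by
      intro v
      have := pol v u
      rwa [hu0, map_zero, LinearMap.zero_apply, add_zero] at this
    have h2 : ∀ (m : ℕ) (v : U), b ((A ^ m) v) u = c ^ m * b v u := by
      intro m
      induction m with
      | zero => intro v; simp
      | succ m ih =>
        intro v
        rw [pow_succ, Module.End.mul_apply, ih, h1, pow_succ]; ring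
    apply hu
    apply hb
    intro w
    have h3 := h2 n w
    rw [hn, LinearMap.zero_apply, map_zero, LinearMap.zero_apply] at h3
    exact (mul_eq_zero.1 h3.symm).resolve_left (pow_ne_zero _ hc)
  have a3 : ∀ v, b (A v) v = 0 := fun v => by rw [hA, hc, zero_mul]
  obtain ⟨v1, v2, v3⟩ := inv_vals h hq hi hj a1 a2 a3 e
  refine ⟨a1, a2, a3, ?_⟩
  -- the trace vector
  let t : U →ₗ[K] U := LinearMap.id + i + j + j ∘ₗ i + (z + z ∘ₗ i + z ∘ₗ j + z ∘ₗ j ∘ₗ i)
  have ht : ∀ x, t x = x + i x + j x + j (i x) + (z x + z (i x) + z (j x) + z (j (i x))) := fun x => rfl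
  have hij : ∀ v, i (j v) = z (j (i v)) := fun v => by rw [h.ji, h.zz]
  have ti : ∀ x, t (i x) = t x := by
    intro x
    rw [ht, ht]
    simp only [h.ii, ← h.zj, h.zz]
    abel
  have tj : ∀ x, t (j x) = t x := by
    intro x
    rw [ht, ht]
    simp only [hij, ← h.zj, h.jj, h.zz]
    abel
  have tz : ∀ x, t (z x) = t x := fun x => by rw [← h.ii, ti, ti]
  have tA : ∀ x, A (t x) = t (A x) := by
    intro x
    rw [ht, ht]
    simp only [map_add, a1, a2, hz]
  have hs : ∀ x, ∃ s : K, t x = s • t e := by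
    intro x
    have hx : x ∈ Submodule.span K ({e, i e, j e, j (i e)} ∪ {z e, z (i e), z (j e), z (j (i e))} : Set U) := by
      rw [he]; trivial
    have hle : Submodule.span K ({e, i e, j e, j (i e)} ∪ {z e, z (i e), z (j e), z (j (i e))} : Set U) ≤
        (Submodule.span K {t e}).comap t := by
      rw [Submodule.span_le]
      rintro u ((rfl | rfl | rfl | rfl) | (rfl | rfl | rfl | rfl)) <;>
        simp only [SetLike.mem_coe, Submodule.mem_comap, ti, tj, tz] <;>
        exact Submodule.mem_span_singleton_self _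
    obtain ⟨s, hs⟩ := Submodule.mem_span_singleton.1 (hle hx)
    exact ⟨s, hs.symm⟩
  obtain ⟨s, hs⟩ := hs (A e)
  have h4 : A (t e) = s • t e := by rw [tA, hs]
  have h5 : A (t e) = 0 := by
    have h6 : ∀ m : ℕ, (A ^ m) (t e) = s ^ m • t e := by
      intro m
      induction m with
      | zero => simp
      | succ m ih => rw [pow_succ, Module.End.mul_apply, h4, map_smul, ih, smul_smul, pow_succ']
    have h7 := h6 n
    rw [hn, LinearMap.zero_apply] at h7
    rcases smul_eq_zero.1 h7.symm with h8 | h8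
    · rw [h4, eq_zero_of_pow_eq_zero h8, zero_smul]
    · rw [h8, map_zero]
  have h6 : b (A e) (t e) = 0 := by
    rw [alt_symm a3, h5, map_zero, LinearMap.zero_apply]
  rw [ht] at h6
  simp only [map_add, v1, v2, v3, a3] at h6
  have e1 := CharTwo.add_self_eq_zero (b (A e) (i e))
  have e2 := CharTwo.add_self_eq_zero (b (A e) (j e))
  have e3 := CharTwo.add_self_eq_zero (b (A e) (j (i e)))
  linear_combination h6 - e1 - e2 - e3

include h hq hi hj hb in
/-- **`NIL3`** the nilpotent infinitesimal similitudes commuting with the quaternion group lie in a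
subspace of dimension at most three -/
theorem nil3 (hU : finrank K U = 8) (hf : finrank K (LinearMap.range (z + 1 : U →ₗ[K] U)) = 4) :
    ∃ T : Submodule K (Module.End K U), finrank K T ≤ 3 ∧ ∀ A : Module.End K U, (∀ v, A (i v) = i (A v)) →
      (∀ v, A (j v) = j (A v)) → (∃ c : K, ∀ v, b (A v) v = c * q v) → IsNilpotent A → A ∈ T := by
  have hfd : FiniteDimensional K U := FiniteDimensional.of_finrank_pos (by rw [hU]; norm_num)
  have hnt : Nontrivial U := Module.nontrivial_of_finrank_pos (R := K) (by rw [hU]; norm_num)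
  obtain ⟨e, he⟩ := exists_gen h hU hf
  refine ⟨T3 i j z b e, finrank_T3 h hq hi hj hb he, ?_⟩
  rintro A a1 a2 ⟨c, hc⟩ hn
  exact nil_mem_T3 h hq hi hj hb he a1 a2 hc hn

omit [CharP K 2] in
/-- a nilpotent endomorphism plus a scalar is nilpotent only if the scalar is zero -/
theorem scal_zero [Nontrivial U] {A : Module.End K U} {l : K} (h1 : IsNilpotent A)
    (h2 : IsNilpotent (A + l • (1 : Module.End K U))) : l = 0 := by
  have hc : Commute (A + l • (1 : Module.End K U)) A := by
    refine Commute.add_left (Commute.refl A) ?_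
    exact (Commute.one_left A).smul_left l
  obtain ⟨n, hn⟩ := hc.isNilpotent_sub h2 h1
  rw [add_sub_cancel_left, smul_pow, one_pow] at hn
  obtain ⟨w, hw⟩ := exists_ne (0 : U)
  have h3 := congrArg (fun f : Module.End K U => f w) hn
  change l ^ n • w = 0 at h3
  rcases smul_eq_zero.1 h3 with h4 | h4
  · exact eq_zero_of_pow_eq_zero h4
  · exact absurd h4 hw

omit [CharP K 2] in
include h in
/-- a nilpotent `A` that is conjugated by `g` to `A` plus a scalar commutes with `g` (`g = i` or `j`) -/
theorem comm_of [Nontrivial U] {A A' : Module.End K U} {g : U →ₗ[K] U} (hg : ∀ v, g (g v) = z v)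
    (hA' : ∀ v, A' v = g (A (g (z v)))) {l : K} (hs : A' = A + l • (1 : Module.End K U))
    (hn : IsNilpotent A) (hn' : IsNilpotent A') (v : U) : A (g v) = g (A v) := by
  have h1 : A' = A := by
    rw [hs] at hn'
    rw [hs, scal_zero hn hn', zero_smul, add_zero]
  have zg : z (g v) = g (z v) := by rw [← hg, ← hg]
  have h2 := hA' (g v)
  rw [h1, zg, hg, h.zz] at h2
  exact h2

include h hq hi hj hb in
/-- **`DNIL0`** `K3` (the traces, of dimension at least three) contains every fixed vector of `L0` that is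
nilpotent in all the representations `R X`. -/
theorem dnil0 (hU : finrank K U = 8) (hf : finrank K (LinearMap.range (z + 1 : U →ₗ[K] U)) = 4)
    {ι L : Type*} [AddCommGroup L] [Module K L] (L0 K3 : Submodule K L) (R : ι → L → Module.End K U)
    (hadd : ∀ X, ∀ x ∈ L0, ∀ y ∈ L0, R X (x + y) = R X x + R X y)
    (hsmul : ∀ X, ∀ c : K, ∀ x ∈ L0, R X (c • x) = c • R X x) (X0 : ι) (hK : K3 ≤ L0) (h3 : 3 ≤ finrank K K3)
    (hKn : ∀ X, ∀ k ∈ K3, IsNilpotent (R X k)) (Fx : L → Prop) (hKf : ∀ k ∈ K3, Fx k)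
    (hci : ∀ x ∈ L0, Fx x → (∀ X, IsNilpotent (R X x)) → ∀ v, R X0 x (i v) = i (R X0 x v))
    (hcj : ∀ x ∈ L0, Fx x → (∀ X, IsNilpotent (R X x)) → ∀ v, R X0 x (j v) = j (R X0 x v))
    (hsim : ∀ x ∈ L0, ∃ c : K, ∀ v, b (R X0 x v) v = c * q v)
    (hker : ∀ x ∈ L0, R X0 x = 0 → ∀ X, ∃ l : K, R X x = l • (1 : Module.End K U))
    (hsep : ∀ x ∈ L0, (∀ X, R X x = 0) → x = 0)
    {x : L} (hx : x ∈ L0) (hxf : Fx x) (hxn : ∀ X, IsNilpotent (R X x)) : x ∈ K3 := by
  have hfd : FiniteDimensional K U := FiniteDimensional.of_finrank_pos (by rw [hU]; norm_num)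
  have hnt : Nontrivial U := Module.nontrivial_of_finrank_pos (R := K) (by rw [hU]; norm_num)
  obtain ⟨T, hT3, hT⟩ := nil3 h hq hi hj hb hU hf
  let f : K3 →ₗ[K] Module.End K U :=
    { toFun := fun k => R X0 k
      map_add' := fun k l => hadd X0 _ (hK k.2) _ (hK l.2)
      map_smul' := fun c k => hsmul X0 c _ (hK k.2) }
  have hfa : ∀ k : K3, f k = R X0 k := fun k => rfl
  have hinj : Function.Injective f := by
    rw [injective_iff_map_eq_zero]
    intro k hk
    have h1 : (k : L) = 0 := by
      refine hsep _ (hK k.2) fun X => ?_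
      obtain ⟨l, hl⟩ := hker _ (hK k.2) (by rw [← hfa]; exact hk) X
      have h2 := hKn X _ k.2
      rw [hl, ← zero_add (l • (1 : Module.End K U))] at h2
      rw [hl, scal_zero (K := K) IsNilpotent.zero h2, zero_smul]
    exact Subtype.ext h1
  have hrange : LinearMap.range f ≤ T := by
    rintro _ ⟨k, rfl⟩
    rw [hfa]
    exact hT _ (hci _ (hK k.2) (hKf _ k.2) fun X => hKn X _ k.2)
      (hcj _ (hK k.2) (hKf _ k.2) fun X => hKn X _ k.2) (hsim _ (hK k.2)) (hKn X0 _ k.2)
  have hdim := LinearMap.finrank_range_of_inj hinj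
  have heq : LinearMap.range f = T := Submodule.eq_of_le_of_finrank_le hrange (by omega)
  have hxT : R X0 x ∈ T := hT _ (hci x hx hxf hxn) (hcj x hx hxf hxn) (hsim x hx) (hxn X0)
  rw [← heq] at hxT
  obtain ⟨k, hk⟩ := hxT
  rw [hfa] at hk
  have hkL := hK k.2
  have hd : x - k ∈ L0 := L0.sub_mem hx hkL
  have hR : ∀ X, R X x = R X k + R X (x - k) := by
    intro X
    rw [← hadd X _ hkL _ hd, add_sub_cancel]
  have h0 : R X0 (x - k) = 0 := by
    have h1 := hR X0
    rw [hk] at h1
    exact left_eq_add.1 h1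
  have h1 : x - k = 0 := by
    refine hsep _ hd fun X => ?_
    obtain ⟨l, hl⟩ := hker _ hd h0 X
    have h2 := hxn X
    rw [hR X, hl] at h2
    rw [hl, scal_zero (hKn X _ k.2) h2, zero_smul]
  rw [sub_eq_zero.1 h1]
  exact k.2

end Form

end Cfsg.Agent.H736.L34
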